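import Mathlib.AlgebraicGeometry.Morphisms.LocalFlatDescent
import Mathlib.AlgebraicGeometry.Morphisms.QuasiFinite
import Mathlib.AlgebraicGeometry.Morphisms.Proper
import Mathlib.AlgebraicGeometry.Morphisms.Integral
import Mathlib.AlgebraicGeometry.Morphisms.Finite
import Mathlib.RingTheory.Finiteness.Descent
import Mathlib.RingTheory.Flat.FaithfullyFlat.Descent

/-!
# fpqc descent of global properties of morphisms
-/

universe u

open CategoryTheory CategoryTheory.Limits MorphismProperty AlgebraicGeometry TensorProduct

namespace Groth.Agent.H18Descent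

/-- surjective, flat and quasi-compact -/
abbrev fpqc : MorphismProperty Scheme.{u} := @Surjective ⊓ @Flat ⊓ @QuasiCompact

set_option backward.isDefEq.respectTransparency.types false in
theorem quasiCompact_descends :
    DescendsAlong @QuasiCompact (@Surjective ⊓ @QuasiCompact : MorphismProperty Scheme.{u}) := by
  constructor
  intro A X Y Z fst snd f g h ⟨hf₁, hf₂⟩ hfst
  have hsnd : Surjective snd := MorphismProperty.of_isPullback (P := @Surjective) h hf₁
  refine ⟨fun U hU hUc => ?_⟩
  have h1 : IsCompact ((fst ≫ f).base ⁻¹' U) := by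
    have : IsCompact (f.base ⁻¹' U) := hf₂.isCompact_preimage U hU hUc
    exact hfst.isCompact_preimage _ (hU.preimage f.continuous) this
  rw [h.w] at h1
  have h2 := h1.image snd.continuous
  have e : snd.base '' ((snd ≫ g).base ⁻¹' U) = g.base ⁻¹' U := by
    rw [show ((snd ≫ g).base ⁻¹' U) = snd.base ⁻¹' (g.base ⁻¹' U) by ext; simp]
    exact Set.image_preimage_eq _ hsnd.surj
  rwa [e] at h2

set_option backward.isDefEq.respectTransparency.types false in
instance quasiCompact_descends_fpqc : DescendsAlong @QuasiCompact fpqc.{u} :=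
  have := quasiCompact_descends.{u}
  .of_le (Q := (@Surjective ⊓ @QuasiCompact : MorphismProperty Scheme.{u}))
    (inf_le_inf inf_le_left le_rfl)

set_option backward.isDefEq.respectTransparency.types false in
instance quasiSeparated_descends_fpqc : DescendsAlong @QuasiSeparated fpqc.{u} := by
  rw [quasiSeparated_eq_diagonal_is_quasiCompact]
  infer_instance

set_option backward.isDefEq.respectTransparency.types false in
instance isAffineHom_descends_fpqc : DescendsAlong @IsAffineHom fpqc.{u} := by
  apply IsZariskiLocalAtTarget.descendsAlong_inf_quasiCompact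
  · rw [inf_comm]
    exact inf_le_inf le_rfl (IsLocalIso.le_of_isZariskiLocalAtSource _)
  intro R S Y φ g hφ hfst
  have hq : fpqc (Spec.map φ) := ⟨hφ, inferInstance⟩
  have : QuasiCompact g :=
    MorphismProperty.of_pullback_fst_of_descendsAlong (P := @QuasiCompact) (Q := fpqc) hq inferInstance
  have : QuasiSeparated g :=
    MorphismProperty.of_pullback_fst_of_descendsAlong (P := @QuasiSeparated) (Q := fpqc) hq inferInstance
  have hYc : CompactSpace Y := QuasiCompact.compactSpace_of_compactSpace g
  have hYs : QuasiSeparatedSpace Y := (HasAffineProperty.iff_of_isAffine (P := @QuasiSeparated)).mp ‹_›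
  have : Flat (Spec.map φ) := hφ.2
  have hPaff : IsAffine (pullback (Spec.map φ) g) := isAffine_of_isAffineHom (pullback.fst (Spec.map φ) g)
  have H : IsPullback (pullback.snd (Spec.map φ) g) (pullback.fst (Spec.map φ) g) g (Spec.map φ) :=
    (IsPullback.of_hasPullback _ _).flip
  have hpo := (isIso_pushoutSection_iff H (US := ⊤) (UT := ⊤) (UX := ⊤) (UY := ⊤)
    (le_top.trans (by simp)) (le_top.trans (by simp)) (by simp)).mp
    (isIso_pushoutSection_of_isQuasiSeparated_of_flat_right _ _ _ _ (isAffineOpen_top _)
      (isAffineOpen_top _) isCompact_univ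
      (by simpa using isQuasiSeparated_univ (α := Y)))
  simp only [Scheme.Hom.appLE] at hpo
  have hpo' : IsPushout g.appTop (Spec.map φ).appTop (pullback.snd (Spec.map φ) g).appTop
      (pullback.fst (Spec.map φ) g).appTop := by
    simpa [Scheme.Hom.appTop] using hpo
  have hbot := isPullback_SpecMap_of_isPushout _ _ _ _ hpo'
  have hout : IsPullback (pullback.snd (Spec.map φ) g) (pullback.fst (Spec.map φ) g ≫ (Spec S).toSpecΓ)
      (g ≫ (Spec R).toSpecΓ) (Spec.map (Spec.map φ).appTop) := by
    refine IsPullback.of_iso H (Iso.refl _) (Iso.refl _) (asIso (Spec S).toSpecΓ)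
      (asIso (Spec R).toSpecΓ) ?_ ?_ ?_ ?_ <;> simp [Scheme.toSpecΓ_naturality]
  rw [Scheme.toSpecΓ_naturality g, Scheme.toSpecΓ_naturality (pullback.fst (Spec.map φ) g)] at hout
  have htop := IsPullback.of_bot hout (Scheme.toSpecΓ_naturality _) hbot
  have hsurj : Surjective (Spec.map (Spec.map φ).appTop) := by
    exact (MorphismProperty.arrow_mk_iso_iff @Surjective
      (arrowIsoSpecΓOfIsAffine (Spec.map φ))).mp hφ.1
  have hflat : Flat (Spec.map (Spec.map φ).appTop) := by
    exact (MorphismProperty.arrow_mk_iso_iff @Flat
      (arrowIsoSpecΓOfIsAffine (Spec.map φ))).mp hφ.2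
  have hq' : fpqc (Spec.map (pullback.snd (Spec.map φ) g).appTop) :=
    MorphismProperty.of_isPullback hbot.flip ⟨⟨hsurj, hflat⟩, inferInstance⟩
  have : IsIso Y.toSpecΓ :=
    MorphismProperty.of_isPullback_of_descendsAlong (P := isomorphisms Scheme.{u}) (Q := fpqc)
      htop.flip hq' (inferInstanceAs <| IsIso (pullback (Spec.map φ) g).toSpecΓ)
  have : IsAffine Y := ⟨this⟩
  exact (HasAffineProperty.iff_of_isAffine (P := @IsAffineHom)).mpr this

set_option backward.isDefEq.respectTransparency.types false in
theorem affineAnd_descends (P : MorphismProperty Scheme.{u}) [P.IsStableUnderBaseChange]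
    {Q : ∀ {R S : Type u} [CommRing R] [CommRing S], (R →+* S) → Prop}
    (hP : HasAffineProperty P (affineAnd Q)) (hQ : RingHom.RespectsIso Q)
    (hQQ' : RingHom.CodescendsAlong Q RingHom.FaithfullyFlat) :
    P.DescendsAlong fpqc.{u} := by
  have : IsZariskiLocalAtTarget P := inferInstance
  apply IsZariskiLocalAtTarget.descendsAlong_inf_quasiCompact
  · rw [inf_comm]
    exact inf_le_inf le_rfl (IsLocalIso.le_of_isZariskiLocalAtSource _)
  introv h hf
  have hq : fpqc (Spec.map φ) := ⟨h, inferInstance⟩
  have : IsAffine Y := by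
    have : IsAffineHom g :=
      MorphismProperty.of_pullback_fst_of_descendsAlong (P := @IsAffineHom) (Q := fpqc) hq <|
        HasAffineProperty.affineAnd_le_isAffineHom P inferInstance _ hf
    exact isAffine_of_isAffineHom g
  wlog hY : ∃ S, Y = Spec S generalizing Y
  · rw [← P.cancel_left_of_respectsIso Y.isoSpec.inv]
    have heq : pullback.fst (Spec.map φ) (Y.isoSpec.inv ≫ g) =
        pullback.map _ _ _ _ (𝟙 _) (Y.isoSpec.inv) (𝟙 _) (by simp) (by simp) ≫
          pullback.fst (Spec.map φ) g := (pullback.lift_fst _ _ _).symm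
    refine this _ ?_ inferInstance ⟨_, rfl⟩
    rwa [heq, P.cancel_left_of_respectsIso]
  obtain ⟨Y, rfl⟩ := hY
  refine of_pullback_fst_Spec_of_codescendsAlong (P := P) (Q' := RingHom.FaithfullyFlat)
    (Q := Q) (P' := @Surjective ⊓ @Flat) hQQ' ?_ ?_ h hf
  · intro R S f hf
    exact (flat_and_surjective_SpecMap_iff f).mp ⟨hf.2, hf.1⟩
  · intro R S f
    exact HasAffineProperty.SpecMap_iff_of_affineAnd hP hQ _

set_option backward.isDefEq.respectTransparency.types false in
instance isClosedImmersion_descends_fpqc : DescendsAlong @IsClosedImmersion fpqc.{u} :=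
  affineAnd_descends (Q := fun f => Function.Surjective f) _ inferInstance RingHom.surjective_respectsIso
    RingHom.FaithfullyFlat.codescendsAlong_surjective

set_option backward.isDefEq.respectTransparency.types false in
instance isFinite_descends_fpqc : DescendsAlong @IsFinite fpqc.{u} :=
  affineAnd_descends (Q := RingHom.Finite) _ inferInstance RingHom.finite_respectsIso
    RingHom.Finite.codescendsAlong_faithfullyFlat

set_option backward.isDefEq.respectTransparency.types false in
theorem isIntegral_codescendsAlong :
    RingHom.CodescendsAlong (fun f : _ →+* _ => f.IsIntegral) RingHom.FaithfullyFlat := by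
  refine .mk _ RingHom.isIntegral_respectsIso fun R S T _ _ _ _ _ h h' ↦ ?_
  rw [RingHom.faithfullyFlat_algebraMap_iff] at h
  rw [algebraMap_isIntegral_iff] at h' ⊢
  refine ⟨fun a => ?_⟩
  let C := Algebra.adjoin R ({a} : Set T)
  have hinj : Function.Injective (Algebra.TensorProduct.map (AlgHom.id S S) C.val) :=
    Module.Flat.lTensor_preserves_injective_linearMap (M := S) C.val.toLinearMap Subtype.val_injective
  have hint : Algebra.IsIntegral S (S ⊗[R] C) :=
    Algebra.IsIntegral.of_injective (Algebra.TensorProduct.map (AlgHom.id S S) C.val) hinj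
  have : Algebra.FiniteType R C :=
    (Subalgebra.fg_iff_finiteType _).mp (Subalgebra.fg_def.mpr ⟨{a}, Set.finite_singleton a, rfl⟩)
  have : Module.Finite S (S ⊗[R] C) := Algebra.IsIntegral.finite
  have : Module.Finite R C := .of_finite_tensorProduct_of_faithfullyFlat S
  have := (Algebra.IsIntegral.of_finite R C).isIntegral ⟨a, Algebra.subset_adjoin rfl⟩
  exact this.map C.val

set_option backward.isDefEq.respectTransparency.types false in
instance isIntegralHom_descends_fpqc : DescendsAlong @IsIntegralHom fpqc.{u} :=
  affineAnd_descends (Q := fun f => f.IsIntegral) _ inferInstance RingHom.isIntegral_respectsIso isIntegral_codescendsAlong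

set_option backward.isDefEq.respectTransparency.types false in
instance isSeparated_descends_fpqc : DescendsAlong @IsSeparated fpqc.{u} := by
  rw [show @IsSeparated = MorphismProperty.diagonal @IsClosedImmersion by
    ext; exact isSeparated_iff _]
  infer_instance

set_option backward.isDefEq.respectTransparency.types false in
instance isProper_descends_fpqc : DescendsAlong @IsProper fpqc.{u} := by
  rw [isProper_eq]
  infer_instance

set_option backward.isDefEq.respectTransparency.types false in
theorem quasiFinite_codescendsAlong :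
    RingHom.CodescendsAlong RingHom.QuasiFinite RingHom.FaithfullyFlat := by
  refine .mk _ RingHom.QuasiFinite.respectsIso fun R S T _ _ _ _ _ h h' ↦ ?_
  rw [RingHom.faithfullyFlat_algebraMap_iff] at h
  rw [RingHom.quasiFinite_algebraMap] at h' ⊢
  refine ⟨fun P hP => ?_⟩
  obtain ⟨⟨Q, hQ⟩, hQP⟩ := PrimeSpectrum.comap_surjective_of_faithfullyFlat (B := S) ⟨P, hP⟩
  obtain rfl : Q.under R = P := congr_arg PrimeSpectrum.asIdeal hQP
  let := Localization.AtPrime.algebraOfLiesOver (Q.under R) Q
  let e : Q.Fiber (S ⊗[R] T) ≃ₐ[Q.ResidueField]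
      Q.ResidueField ⊗[(Q.under R).ResidueField] ((Q.under R).Fiber T) :=
    (Algebra.TensorProduct.cancelBaseChange _ _ _ _ _).trans
      (Algebra.TensorProduct.cancelBaseChange _ _ _ _ _).symm
  have : Module.Finite Q.ResidueField
      (Q.ResidueField ⊗[(Q.under R).ResidueField] ((Q.under R).Fiber T)) :=
    .of_surjective e.toLinearMap e.surjective
  exact .of_finite_tensorProduct_of_faithfullyFlat Q.ResidueField

set_option backward.isDefEq.respectTransparency.types false in
instance locallyQuasiFinite_descends_fpqc : DescendsAlong @LocallyQuasiFinite fpqc.{u} :=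
  HasRingHomProperty.descendsAlong_flat quasiFinite_codescendsAlong

end Groth.Agent.H18Descent
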